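import Groth.Agent.L24.Mono.Factor
import Groth.Agent.L25.Actions
import Groth.Agent.L23.SchemeFacts

/-!
# Images of morphisms over a base with flat kernel pair
-/

set_option autoImplicit false
set_option backward.isDefEq.respectTransparency.types false

universe u

open CategoryTheory CategoryTheory.Limits MonoidalCategory CartesianMonoidalCategory MonObj AlgebraicGeometry

noncomputable section

namespace Groth.L24.MonoFac

variable {S : Scheme.{u}}

/-- A morphism over the base with flat kernel pair of finite presentation is a flat cover followed by a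
monomorphism. -/
theorem exists_factor_over' {A X : Over S} (o : A ⟶ X) [LocallyOfFinitePresentation A.hom]
    {P : Over S} {a b : P ⟶ A} (sq : IsPullback a b o o) (hb : Flat b.left)
    (hbp : LocallyOfFinitePresentation b.left) :
    ∃ (Q : Over S) (p : A ⟶ Q) (i : Q ⟶ X), p ≫ i = o ∧ Surjective p.left ∧ Flat p.left ∧
      LocallyOfFinitePresentation p.left ∧ Mono i ∧ LocallyOfFinitePresentation Q.hom ∧
      IsPullback a b p p := by
  have : LocallyOfFiniteType o.left := by
    have : LocallyOfFiniteType (o.left ≫ X.hom) := by rw [Over.w]; infer_instance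
    exact locallyOfFiniteType_of_comp o.left X.hom
  have sq' : IsPullback b.left a.left o.left o.left := (sq.map (Over.forget S)).flip
  have hflat : Flat (pullback.fst o.left o.left) := by
    rw [← sq'.isoPullback_inv_fst]
    exact (MorphismProperty.cancel_left_of_respectsIso (P := @Flat) _ _).2 hb
  have hfp : LocallyOfFinitePresentation (pullback.fst o.left o.left) := by
    rw [← sq'.isoPullback_inv_fst]
    exact (MorphismProperty.cancel_left_of_respectsIso (P := @LocallyOfFinitePresentation) _ _).2 hbp
  obtain ⟨Q, p, i, hs, hf, hp, hm, hpi⟩ := exists_factor' o hflat hfp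
  have : Mono i := Over.mono_of_mono_left i
  refine ⟨Q, p, i, hpi, hs, hf, hp, this, ?_, ?_⟩
  · have h : LocallyOfFinitePresentation (p.left ≫ Q.hom) := by rw [Over.w]; infer_instance
    exact Groth.L24.Alg.locallyOfFinitePresentation_of_fppf_comp p.left Q.hom h
  · exact IsPullback.of_isLimit (PullbackCone.IsLimit.mk
      (by rw [← cancel_mono i, Category.assoc, Category.assoc, hpi]; exact sq.w)
      (fun c => sq.lift c.fst c.snd (by rw [← hpi, c.condition_assoc]))
      (fun c => sq.lift_fst _ _ _) (fun c => sq.lift_snd _ _ _)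
      (fun c m h₁ h₂ => sq.hom_ext (by rw [sq.lift_fst]; exact h₁) (by rw [sq.lift_snd]; exact h₂)))

/-- A morphism over the base with flat kernel pair is a flat cover followed by a monomorphism. -/
theorem exists_factor_over {A X : Over S} (o : A ⟶ X) [LocallyOfFinitePresentation A.hom]
    [LocallyOfFiniteType X.hom] {P : Over S} {a b : P ⟶ A} (sq : IsPullback a b o o) (hb : Flat b.left) :
    ∃ (Q : Over S) (p : A ⟶ Q) (i : Q ⟶ X), p ≫ i = o ∧ Surjective p.left ∧ Flat p.left ∧
      LocallyOfFinitePresentation p.left ∧ Mono i ∧ LocallyOfFinitePresentation Q.hom ∧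
      IsPullback a b p p := by
  have : LocallyOfFinitePresentation o.left := by
    have : LocallyOfFinitePresentation (o.left ≫ X.hom) := by rw [Over.w]; infer_instance
    exact Groth.L23.lfp_of_comp_lft o.left X.hom ‹_›
  have hflat : Flat (pullback.fst o.left o.left) := by
    have sq' : IsPullback b.left a.left o.left o.left := (sq.map (Over.forget S)).flip
    rw [← sq'.isoPullback_inv_fst]
    exact (MorphismProperty.cancel_left_of_respectsIso (P := @Flat) _ _).2 hb
  obtain ⟨Q, p, i, hs, hf, hp, hm, hpi⟩ := exists_factor o hflat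
  have : Mono i := Over.mono_of_mono_left i
  refine ⟨Q, p, i, hpi, hs, hf, hp, this, ?_, ?_⟩
  · have h : LocallyOfFinitePresentation (p.left ≫ Q.hom) := by rw [Over.w]; infer_instance
    exact Groth.L24.Alg.locallyOfFinitePresentation_of_fppf_comp p.left Q.hom h
  · exact IsPullback.of_isLimit (PullbackCone.IsLimit.mk
      (by rw [← cancel_mono i, Category.assoc, Category.assoc, hpi]; exact sq.w)
      (fun c => sq.lift c.fst c.snd (by rw [← hpi, c.condition_assoc]))
      (fun c => sq.lift_fst _ _ _) (fun c => sq.lift_snd _ _ _)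
      (fun c m h₁ h₂ => sq.hom_ext (by rw [sq.lift_fst]; exact h₁) (by rw [sq.lift_snd]; exact h₂)))

/-- A map lifts along a monomorphism when it does so after a flat cover. -/
theorem exists_lift_of_cover {A B Q H : Over S} (c : A ⟶ B) [EffectiveEpi c.left] (g : A ⟶ Q)
    (i : Q ⟶ H) [Mono i] (h : B ⟶ H) (w : g ≫ i = c ≫ h) : ∃ k : B ⟶ Q, c ≫ k = g ∧ k ≫ i = h := by
  obtain ⟨k, hk, -⟩ := Groth.L25.Actions.existsUnique_desc c g fun Z g₁ g₂ hg => by
    rw [← cancel_mono i, Category.assoc, Category.assoc, w, reassoc_of% hg]
  refine ⟨k, hk, ?_⟩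
  apply Over.OverMorphism.ext
  rw [← cancel_epi c.left, ← Over.comp_left, ← Over.comp_left, reassoc_of% hk, w]

end Groth.L24.MonoFac
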