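import Groth.Agent.L24.Boot.QuotFlat
import Groth.Agent.L24.Alg.SourceFppf
import Groth.Agent.L24.St.LocPFppf
import Groth.Agent.L23.LqfRep
import Mathlib.CategoryTheory.Sites.Subsheaf

/-!
# Factoring a morphism with flat kernel pair through a monomorphism
-/

set_option autoImplicit false
set_option backward.isDefEq.respectTransparency false
set_option backward.isDefEq.respectTransparency.types false

universe u

open CategoryTheory CategoryTheory.Limits AlgebraicGeometry Opposite AlgSp

noncomputable section

namespace Groth.L24.MonoFac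

open Groth.L24.Boot

/-- A morphism whose self-product projects by an etale map is locally quasi-finite. -/
theorem locallyQuasiFinite_of_etale_fst {V T : Scheme.{u}} (h : V ⟶ T) [LocallyOfFiniteType h]
    [Etale (pullback.fst h h)] : LocallyQuasiFinite h := by
  choose W hW hhW _ using fun v : V =>
    exists_isAffineOpen_mem_and_subset (x := h v) (U := (⊤ : T.Opens)) trivial
  choose A hA hvA hAW using fun v : V => exists_isAffineOpen_mem_and_subset (x := v) (U := h ⁻¹ᵁ W v) (hhW v)
  let 𝒰 : V.OpenCover := Scheme.Cover.mkOfCovers V (fun v => (A v).toScheme) (fun v => (A v).ι)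
    (fun v => ⟨v, ⟨v, hvA v⟩, rfl⟩) (fun v => inferInstance)
  refine (IsZariskiLocalAtSource.iff_of_openCover (P := @LocallyQuasiFinite) 𝒰).2 fun v => ?_
  show LocallyQuasiFinite ((A v).ι ≫ h)
  let g : (A v).toScheme ⟶ (W v).toScheme := h.resLE (W v) (A v) (hAW v)
  have hg : g ≫ (W v).ι = (A v).ι ≫ h := Scheme.Hom.resLE_comp_ι _ _
  rw [← hg]
  have : IsAffine (A v).toScheme := hA v
  have : IsAffine (W v).toScheme := hW v
  have : LocallyOfFiniteType g := by
    have : LocallyOfFiniteType (g ≫ (W v).ι) := by rw [hg]; infer_instance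
    exact locallyOfFiniteType_of_comp g (W v).ι
  have : LocallyQuasiFinite g := by
    have : Etale (pullback.fst g g) := by
      let m : pullback g g ⟶ pullback h h := pullback.map g g h h (A v).ι (A v).ι (W v).ι hg hg
      have hm : m = (pullback.congrHom (f₁ := g) (g₁ := g) rfl rfl).hom ≫ m := by simp
      have : IsOpenImmersion m := by
        let i : pullback g g ⟶ pullback ((A v).ι ≫ h) ((A v).ι ≫ h) :=
          pullback.lift (pullback.fst g g) (pullback.snd g g) (by rw [← hg, pullback.condition_assoc])
        have : IsIso i := ⟨pullback.lift (pullback.fst _ _) (pullback.snd _ _) (by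
          rw [← cancel_mono (W v).ι, Category.assoc, Category.assoc, hg, pullback.condition]),
          by apply pullback.hom_ext <;> simp [i], by apply pullback.hom_ext <;> simp [i]⟩
        have e : m = i ≫ pullback.map ((A v).ι ≫ h) ((A v).ι ≫ h) h h (A v).ι (A v).ι (𝟙 T)
            (by simp) (by simp) := by apply pullback.hom_ext <;> simp [m, i]
        rw [e]; infer_instance
      have : Etale (pullback.fst g g ≫ (A v).ι) := by
        have e : pullback.fst g g ≫ (A v).ι = m ≫ pullback.fst h h := by simp [m]
        rw [e]; infer_instance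
      exact Etale.of_comp (pullback.fst g g) (A v).ι
    refine .of_finite_preimage_singleton g fun y => ?_
    by_cases hne : (g ⁻¹' {y}).Nonempty
    · obtain ⟨x, hx⟩ := hne
      refine (((pullback.fst g g).finite_preimage_singleton x).image (pullback.snd g g)).subset fun x' hx' => ?_
      obtain ⟨z, hz₁, hz₂⟩ := Scheme.Pullback.exists_preimage_pullback (f := g) (g := g) x x'
        ((Set.mem_singleton_iff.1 hx).trans (Set.mem_singleton_iff.1 hx').symm)
      exact ⟨z, hz₁, hz₂⟩
    · rw [Set.not_nonempty_iff_eq_empty.1 hne]; exact Set.finite_empty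
  infer_instance

variable {S : Scheme.{u}}

/-- A mono from an algebraic space to a scheme is separated. -/
theorem separated_of_mono {F G : Sp S} (f : F ⟶ G) [Mono f] : IsSeparatedMor f :=
  Groth.L23.repWith_of_isIso _

/-- A morphism with flat kernel pair and of finite presentation is a flat cover followed by a monomorphism. -/
theorem exists_factor' {X₀ T : Over S} (a : X₀ ⟶ T) [LocallyOfFiniteType a.left]
    (hflat : Flat (pullback.fst a.left a.left))
    (hfp : LocallyOfFinitePresentation (pullback.fst a.left a.left)) :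
    ∃ (G₀ : Over S) (f' : X₀ ⟶ G₀) (f'' : G₀ ⟶ T), Surjective f'.left ∧ Flat f'.left ∧
      LocallyOfFinitePresentation f'.left ∧ Mono f''.left ∧ f' ≫ f'' = a := by
  let φ := (yon S).map a
  let ι := Sheaf.imageι φ
  let q := Sheaf.toImage φ
  have hqι : q ≫ ι = φ := Sheaf.toImage_ι φ
  have sqa := IsPullback.of_hasPullback a a
  have sq' := sqa.map (yon S)
  have sq : IsPullback ((yon S).map (pullback.fst a a)) ((yon S).map (pullback.snd a a)) q q :=
    IsPullback.of_isLimit (PullbackCone.IsLimit.mk
      (by rw [← cancel_mono ι, Category.assoc, Category.assoc, hqι]; exact sq'.w)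
      (fun c => sq'.lift c.fst c.snd (by rw [show (yon S).map a = q ≫ ι from hqι.symm, c.condition_assoc]))
      (fun c => sq'.lift_fst _ _ _) (fun c => sq'.lift_snd _ _ _)
      (fun c m h₁ h₂ => sq'.hom_ext (by rw [sq'.lift_fst]; exact h₁) (by rw [sq'.lift_snd]; exact h₂)))
  have e := (sqa.map (Over.forget S)).isoPullback_hom_fst
  have htf' : Flat (pullback.fst a a).left := by
    rw [show (pullback.fst a a).left = (sqa.map (Over.forget S)).isoPullback.hom ≫ pullback.fst a.left a.left from e.symm]
    exact (MorphismProperty.cancel_left_of_respectsIso (P := @Flat) _ _).2 hflat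
  have htp' : LocallyOfFinitePresentation (pullback.fst a a).left := by
    rw [show (pullback.fst a a).left = (sqa.map (Over.forget S)).isoPullback.hom ≫ pullback.fst a.left a.left from e.symm]
    exact (MorphismProperty.cancel_left_of_respectsIso (P := @LocallyOfFinitePresentation) _ _).2 hfp
  have hR := IsAlgSpace.yon_obj (pullback a a)
  have hX := IsAlgSpace.yon_obj X₀
  have htf := Groth.L23.locP_of_repWith Groth.L23.etLocal_flat (Groth.L23.repWith_map (S := S) htf')
  have htp := Groth.L23.locP_of_repWith Groth.L23.etLocal_lfp (Groth.L23.repWith_map (S := S) htp')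
  have hQ : IsAlgSpace (Sheaf.image φ) := isAlgSpace_of_kernelPair sq hR hX htf htp
  obtain ⟨V, η, hη, hηs⟩ := hQ.atlas
  obtain ⟨hV, hVh⟩ := (yon S).map_surjective (η ≫ ι)
  -- the pullback of the atlas
  obtain ⟨P, pV, pX, sqP⟩ := Groth.L23.exists_isPullback_of_representable hη.1 q
  obtain ⟨-, ⟨hbs, hbf⟩, hbp⟩ := isAlgSpace_pullback_of_kernelPair sq hR hX htf htp η sqP.flip
  have : Surjective pV.left := surjective_of_points pV hbs
  have : Flat pV.left := Groth.L24.St.prop_of_locP_map hbf
  have : LocallyOfFinitePresentation pV.left := Groth.L24.St.prop_of_locP_map hbp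
  have : Etale pX.left := Groth.L23.repWith_prop hη sqP
  have hwP : pV ≫ hV = pX ≫ a := (yon S).map_injective (by
    simp only [Functor.map_comp, hVh, reassoc_of% sqP.w, hqι, φ])
  have : LocallyOfFiniteType (pV.left ≫ hV.left) := by
    rw [← Over.comp_left, hwP, Over.comp_left]; infer_instance
  have : LocallyOfFiniteType hV.left := Groth.L24.Alg.locallyOfFiniteType_of_fppf_comp pV.left hV.left ‹_›
  -- the self-product of the atlas over the base
  have sqV := IsPullback.of_hasPullback hV hV
  have sqV' := sqV.map (yon S)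
  have sqη : IsPullback ((yon S).map (pullback.fst hV hV)) ((yon S).map (pullback.snd hV hV)) η η :=
    IsPullback.of_isLimit (PullbackCone.IsLimit.mk
      (by rw [← cancel_mono ι, Category.assoc, Category.assoc, ← hVh]; exact sqV'.w)
      (fun c => sqV'.lift c.fst c.snd (by rw [hVh, c.condition_assoc]))
      (fun c => sqV'.lift_fst _ _ _) (fun c => sqV'.lift_snd _ _ _)
      (fun c m h₁ h₂ => sqV'.hom_ext (by rw [sqV'.lift_fst]; exact h₁) (by rw [sqV'.lift_snd]; exact h₂)))
  have he : Etale (pullback.fst hV hV).left := Groth.L23.repWith_prop hη sqη.flip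
  have : Etale (pullback.fst hV.left hV.left) := by
    show Etale (pullback.fst ((Over.forget S).map hV) ((Over.forget S).map hV))
    rw [← (sqV.map (Over.forget S)).isoPullback_inv_fst]
    exact (MorphismProperty.cancel_left_of_respectsIso (P := @Etale) _ _).2 he
  have hlq : LocallyQuasiFinite hV.left := locallyQuasiFinite_of_etale_fst hV.left
  have hι : LocP (@LocallyQuasiFinite ⊓ @LocallyOfFiniteType) ι :=
    Groth.L23.locP_of_chart Groth.L23.etLocal_lqfLft hη hηs (b := 𝟙 _) (Groth.L23.repWith_of_isIso _)
      (by rw [Category.comp_id, hVh]) ⟨hlq, ‹_›⟩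
  obtain ⟨G₀, θ, hθ⟩ := Groth.L23.Lqf.exists_scheme_of_lqf hQ ι hι (separated_of_mono ι)
  obtain ⟨f', hf'⟩ := (yon S).map_surjective (q ≫ inv θ)
  obtain ⟨f'', hf''⟩ := (yon S).map_surjective (θ ≫ ι)
  have sqθ : IsPullback (𝟙 ((yon S).obj X₀)) ((yon S).map f') q θ :=
    IsPullback.of_horiz_isIso ⟨by rw [hf', Category.id_comp, Category.assoc, IsIso.inv_hom_id, Category.comp_id]⟩
  obtain ⟨-, ⟨hs, hf⟩, hp⟩ := isAlgSpace_pullback_of_kernelPair sq hR hX htf htp θ sqθ
  refine ⟨G₀, f', f'', surjective_of_points f' hs, Groth.L24.St.prop_of_locP_map hf,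
    Groth.L24.St.prop_of_locP_map hp, ?_, (yon S).map_injective (by
      rw [Functor.map_comp, hf', hf'', Category.assoc, IsIso.inv_hom_id_assoc, hqι])⟩
  have : Mono ((yon S).map f'') := by rw [hf'']; infer_instance
  have : Mono f'' := (yon S).mono_of_mono_map this
  infer_instance

/-- The same when the morphism itself is of finite presentation. -/
theorem exists_factor {X₀ T : Over S} (a : X₀ ⟶ T) [LocallyOfFinitePresentation a.left]
    (hflat : Flat (pullback.fst a.left a.left)) :
    ∃ (G₀ : Over S) (f' : X₀ ⟶ G₀) (f'' : G₀ ⟶ T), Surjective f'.left ∧ Flat f'.left ∧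
      LocallyOfFinitePresentation f'.left ∧ Mono f''.left ∧ f' ≫ f'' = a :=
  exists_factor' a hflat inferInstance

end Groth.L24.MonoFac
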